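import Mathlib

/-!
# Admissible regular systems of parameters for unipotent actions
-/

set_option autoImplicit false

universe u v

open IsLocalRing

namespace Groth.Agent.WildRam

/-- A `p`-group acting on an `F_p`-module: every additive subgroup generated by an orbit has a fixed point. -/
theorem exists_fixed_mem_closure (p : ℕ) [Fact p.Prime] {M : Type u} [AddCommGroup M]
    (hp : ∀ x : M, p • x = 0) (G : Type v) [Group G] [Finite G] (hG : IsPGroup p G) [DistribMulAction G M]
    (x : M) (hx : x ≠ 0) :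
    ∃ y ∈ AddSubgroup.closure (Set.range fun g : G => g • x), y ≠ 0 ∧ ∀ g : G, g • y = y := by
  classical
  set C := AddSubgroup.closure (Set.range fun g : G => g • x) with hC
  have hstab : ∀ (g : G), ∀ z ∈ C, g • z ∈ C := by
    intro g z hz
    induction hz using AddSubgroup.closure_induction with
    | mem z hz =>
      obtain ⟨l, rfl⟩ := hz
      exact AddSubgroup.subset_closure ⟨g * l, mul_smul g l x⟩
    | zero => rw [smul_zero]; exact zero_mem _
    | add z w _ _ hz hw => rw [smul_add]; exact add_mem hz hw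
    | neg z _ hz => rw [smul_neg]; exact neg_mem hz
  letI : MulAction G C :=
    { smul := fun g z => ⟨g • (z : M), hstab g z z.2⟩
      one_smul := fun z => Subtype.ext (one_smul G (z : M))
      mul_smul := fun g l z => Subtype.ext (mul_smul g l (z : M)) }
  haveI : AddGroup.FG C := AddGroup.closure_finite_fg _
  haveI : Finite C := AddCommGroup.finite_of_fg_isAddTorsion C fun z =>
    isOfFinAddOrder_iff_nsmul_eq_zero.2 ⟨p, (Fact.out : p.Prime).pos, Subtype.ext (by simpa using hp (z : M))⟩
  have hx' : (⟨x, AddSubgroup.subset_closure ⟨1, one_smul G x⟩⟩ : C) ≠ 0 := fun h => hx (congrArg Subtype.val h)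
  have hord : addOrderOf (⟨x, AddSubgroup.subset_closure ⟨1, one_smul G x⟩⟩ : C) = p :=
    addOrderOf_eq_prime (Subtype.ext (by simpa using hp x)) hx'
  have hcard : p ∣ Nat.card C := hord ▸ addOrderOf_dvd_natCard _
  obtain ⟨y, hy, hy0⟩ := hG.exists_fixed_point_of_prime_dvd_card_of_fixed_point C hcard
    (a := (0 : C)) (fun g => Subtype.ext (smul_zero g))
  exact ⟨y, y.2, fun h => hy0 (Subtype.ext h.symm), fun g => congrArg Subtype.val (hy g)⟩

theorem mem_sup_mono {A : Type u} [CommRing A] {I I' K : Ideal A} (h : I ≤ I') {x : A} (hx : x ∈ I ⊔ K) :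
    x ∈ I' ⊔ K := (sup_le_sup_right h K : I ⊔ K ≤ I' ⊔ K) hx

variable {A : Type u} [CommRing A] [IsLocalRing A] {G : Type v} [Group G] [MulSemiringAction G A]

/-- Triangular generators form an admissible system. -/
theorem span_smul_eq_maximalIdeal [IsNoetherianRing A]
    (hres : ∀ (σ : G) (a : A), σ • a - a ∈ maximalIdeal A) {n : ℕ} (u : Fin n → A)
    (hu : Ideal.span (Set.range u) = maximalIdeal A)
    (htri : ∀ (σ : G) (i : Fin n), σ • u i ∈ Ideal.span (u '' {j | j ≤ i}) ⊔ maximalIdeal A ^ 2)
    (τ : Fin n → G) : Ideal.span (Set.range fun i => τ i • u i) = maximalIdeal A := by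
  set T := Ideal.span (Set.range fun i => τ i • u i)
  have hsm : ∀ (σ : G), ∀ x ∈ maximalIdeal A, σ • x ∈ maximalIdeal A := fun σ x hx => by
    simpa using add_mem (hres σ x) hx
  have hum : ∀ i, u i ∈ maximalIdeal A := fun i => hu ▸ Ideal.subset_span ⟨i, rfl⟩
  have hTm : T ≤ maximalIdeal A := Ideal.span_le.2 (by rintro _ ⟨i, rfl⟩; exact hsm _ _ (hum i))
  set J := fun i : Fin n => Ideal.span (u '' {j | j < i}) ⊔ maximalIdeal A ^ 2
  have hstab : ∀ (σ : G) (i : Fin n), ∀ x ∈ J i, σ • x ∈ J i := by
    intro σ i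
    suffices (J i).map (MulSemiringAction.toRingHom G A σ) ≤ J i from fun x hx => this (Ideal.mem_map_of_mem _ hx)
    rw [Ideal.map_sup, Ideal.map_span, Ideal.map_pow]
    refine sup_le ((Ideal.span_le).2 ?_) (le_sup_of_le_right (Ideal.pow_right_mono ?_ 2))
    · rintro _ ⟨_, ⟨j, hj, rfl⟩, rfl⟩
      have hmono : Ideal.span (u '' {l | l ≤ j}) ≤ Ideal.span (u '' {l | l < i}) :=
        Ideal.span_mono (Set.image_mono fun l hl => lt_of_le_of_lt (show l ≤ j from hl) hj)
      exact mem_sup_mono hmono (htri σ j)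
    · exact Ideal.map_le_iff_le_comap.2 fun x hx => hsm σ x hx
  have hdec : ∀ (σ : G) (i : Fin n), ∃ c : A, σ • u i - c * u i ∈ J i := by
    intro σ i
    have hsplit : u '' {j | j ≤ i} = insert (u i) (u '' {j | j < i}) := by
      rw [← Set.image_insert_eq]
      congr 1
      ext j
      simp [le_iff_eq_or_lt]
    have h := htri σ i
    rw [hsplit, Ideal.span_insert, sup_assoc] at h
    obtain ⟨y, hy, z, hz, hyz⟩ := Submodule.mem_sup.1 h
    obtain ⟨c, rfl⟩ := Ideal.mem_span_singleton'.1 hy
    exact ⟨c, by rwa [← hyz, add_sub_cancel_left]⟩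
  have key : ∀ i : Fin n, u i ∈ T ⊔ maximalIdeal A ^ 2 := by
    intro i
    induction i using WellFoundedLT.induction with
    | _ i ih =>
      have hJT : J i ≤ T ⊔ maximalIdeal A ^ 2 := by
        refine sup_le ((Ideal.span_le).2 ?_) le_sup_right
        rintro _ ⟨j, hj, rfl⟩
        exact ih j hj
      obtain ⟨c, hc⟩ := hdec (τ i) i
      obtain ⟨d, hd⟩ := hdec (τ i)⁻¹ i
      have h1 := hstab (τ i)⁻¹ i _ hc
      rw [smul_sub, inv_smul_smul, smul_mul'] at h1
      have h2 : u i * (1 - (τ i)⁻¹ • c * d) ∈ J i := by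
        rw [show u i * (1 - (τ i)⁻¹ • c * d) =
          (u i - (τ i)⁻¹ • c * (τ i)⁻¹ • u i) + (τ i)⁻¹ • c * ((τ i)⁻¹ • u i - d * u i) by ring]
        exact add_mem h1 (Ideal.mul_mem_left _ _ hd)
      by_cases hunit : IsUnit (1 - (τ i)⁻¹ • c * d)
      · exact hJT ((Ideal.mul_unit_mem_iff_mem (J i) hunit).1 h2)
      · have hcd : IsUnit ((τ i)⁻¹ • c * d) := by
          rcases IsLocalRing.isUnit_or_isUnit_of_add_one
            (show (1 - (τ i)⁻¹ • c * d) + (τ i)⁻¹ • c * d = 1 by ring) with h | h
          · exact absurd h hunit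
          · exact h
        have hcu : IsUnit c := by
          have := (isUnit_of_mul_isUnit_left hcd).map (MulSemiringAction.toRingHom G A (τ i))
          rwa [MulSemiringAction.toRingHom_apply, smul_inv_smul] at this
        refine (Ideal.unit_mul_mem_iff_mem _ hcu).1 ?_
        rw [show c * u i = τ i • u i - (τ i • u i - c * u i) by ring]
        exact sub_mem (Submodule.mem_sup_left (Ideal.subset_span ⟨i, rfl⟩)) (hJT hc)
  refine le_antisymm hTm (Submodule.le_of_le_smul_of_le_jacobson_bot (I := maximalIdeal A) (N := T)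
    (IsNoetherian.noetherian _) (jacobson_eq_maximalIdeal ⊥ bot_ne_top).ge ?_)
  rw [smul_eq_mul, ← pow_two]
  conv_lhs => rw [← hu]
  exact Ideal.span_le.2 (by rintro _ ⟨i, rfl⟩; exact key i)

theorem mem_span_cotangent_iff {ι : Type*} [Fintype ι] (u : ι → maximalIdeal A) (x : maximalIdeal A) :
    (maximalIdeal A).toCotangent x ∈
        Submodule.span (ResidueField A) (Set.range fun i => (maximalIdeal A).toCotangent (u i)) ↔
      (x : A) ∈ Ideal.span (Set.range fun i => (u i : A)) ⊔ maximalIdeal A ^ 2 := by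
  constructor
  · intro h
    obtain ⟨c, hc⟩ := (Submodule.mem_span_range_iff_exists_fun _).1 h
    choose r hr using fun i => residue_surjective (c i)
    have : (maximalIdeal A).toCotangent x = (maximalIdeal A).toCotangent (∑ i, r i • u i) := by
      rw [map_sum, ← hc]
      refine Finset.sum_congr rfl fun i _ => ?_
      rw [map_smul, ← hr i]
      rfl
    rw [Ideal.toCotangent_eq] at this
    rw [← sub_add_cancel (x : A) ((∑ i, r i • u i : maximalIdeal A) : A)]
    refine add_mem (Submodule.mem_sup_right this) (Submodule.mem_sup_left ?_)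
    rw [Submodule.coe_sum]
    exact sum_mem fun i _ => Ideal.mul_mem_left _ _ (Ideal.subset_span ⟨i, rfl⟩)
  · intro h
    obtain ⟨y, hy, z, hz, hyz⟩ := Submodule.mem_sup.1 h
    obtain ⟨r, hr⟩ := Ideal.mem_span_range_iff_exists_fun.1 hy
    have : (maximalIdeal A).toCotangent x = (maximalIdeal A).toCotangent (∑ i, r i • u i) := by
      rw [Ideal.toCotangent_eq, Submodule.coe_sum]
      show (x : A) - ∑ i, r i * (u i : A) ∈ _
      rwa [hr, ← hyz, add_sub_cancel_left]
    rw [this, map_sum]
    refine sum_mem fun i _ => ?_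
    rw [map_smul]
    exact (Submodule.span (ResidueField A) (Set.range fun i => (maximalIdeal A).toCotangent (u i))).smul_mem (residue A (r i)) (Submodule.subset_span (Set.mem_range_self (f := fun i => (maximalIdeal A).toCotangent (u i)) i))

/-- A `p`-group acting trivially on the residue field (characteristic `p`) has triangular generators. -/
theorem exists_triangular [IsNoetherianRing A] (p : ℕ) [Fact p.Prime] [CharP A p] [Finite G] (hG : IsPGroup p G)
    (hres : ∀ (σ : G) (a : A), σ • a - a ∈ maximalIdeal A) {n : ℕ}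
    (hn : Module.finrank (ResidueField A) (CotangentSpace A) = n) :
    ∃ u : Fin n → A, Ideal.span (Set.range u) = maximalIdeal A ∧
      ∀ (σ : G) (i : Fin n), σ • u i ∈ Ideal.span (u '' {j | j ≤ i}) ⊔ maximalIdeal A ^ 2 := by
  classical
  have hsm : ∀ (σ : G), ∀ x ∈ maximalIdeal A, σ • x ∈ maximalIdeal A := fun σ x hx => by
    simpa using add_mem (hres σ x) hx
  suffices H : ∀ i, i ≤ n → ∃ u : Fin i → maximalIdeal A,
      LinearIndependent (ResidueField A) (fun l => (maximalIdeal A).toCotangent (u l)) ∧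
      ∀ (σ : G) (l : Fin i),
        σ • (u l : A) ∈ Ideal.span ((fun l => (u l : A)) '' {j | j ≤ l}) ⊔ maximalIdeal A ^ 2 by
    obtain ⟨u, hli, htri⟩ := H n le_rfl
    refine ⟨fun l => u l, ?_, htri⟩
    have htop := hli.span_eq_top_of_card_eq_finrank' (by rw [Fintype.card_fin, hn])
    refine le_antisymm (Ideal.span_le.2 (by rintro _ ⟨l, rfl⟩; exact (u l).2))
      (Submodule.le_of_le_smul_of_le_jacobson_bot (I := maximalIdeal A) (IsNoetherian.noetherian _)
        (jacobson_eq_maximalIdeal ⊥ bot_ne_top).ge fun x hx => ?_)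
    rw [smul_eq_mul, ← pow_two]
    exact (mem_span_cotangent_iff u ⟨x, hx⟩).1 (htop.symm ▸ Submodule.mem_top)
  intro i
  induction i with
  | zero => exact fun _ => ⟨Fin.elim0, linearIndependent_empty_type, fun _ l => Fin.elim0 l⟩
  | succ i ih =>
    intro hi
    obtain ⟨u, hli, htri⟩ := ih (Nat.le_of_succ_le hi)
    set J := Ideal.span (Set.range fun l => (u l : A)) ⊔ maximalIdeal A ^ 2
    have hJm : J ≤ maximalIdeal A :=
      sup_le (Ideal.span_le.2 (by rintro _ ⟨l, rfl⟩; exact (u l).2)) (Ideal.pow_le_self two_ne_zero)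
    have hstab : ∀ σ : G, J ≤ J.comap (MulSemiringAction.toRingHom G A σ) := by
      intro σ
      rw [← Ideal.map_le_iff_le_comap, Ideal.map_sup, Ideal.map_span, Ideal.map_pow]
      refine sup_le (Ideal.span_le.2 ?_) (le_sup_of_le_right (Ideal.pow_right_mono ?_ 2))
      · rintro _ ⟨_, ⟨l, rfl⟩, rfl⟩
        exact mem_sup_mono (Ideal.span_mono (Set.image_subset_range _ _)) (htri σ l)
      · exact Ideal.map_le_iff_le_comap.2 fun x hx => hsm σ x hx
    obtain ⟨x, hx, hxJ⟩ : ∃ x ∈ maximalIdeal A, x ∉ J := by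
      by_contra hall
      push Not at hall
      have htop : (⊤ : Submodule (ResidueField A) (CotangentSpace A)) ≤
          Submodule.span (ResidueField A) (Set.range fun l => (maximalIdeal A).toCotangent (u l)) := by
        intro z _
        obtain ⟨y, rfl⟩ := (maximalIdeal A).toCotangent_surjective z
        exact (mem_span_cotangent_iff u y).2 (hall y y.2)
      have h1 := finrank_span_eq_card hli
      rw [top_le_iff.1 htop, finrank_top, hn, Fintype.card_fin] at h1
      omega
    letI : DistribMulAction G (A ⧸ J) :=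
      { smul := fun σ => Ideal.quotientMap J (MulSemiringAction.toRingHom G A σ) (hstab σ)
        one_smul := fun z => by
          obtain ⟨a, rfl⟩ := Ideal.Quotient.mk_surjective z
          exact congrArg (Ideal.Quotient.mk J) (one_smul G a)
        mul_smul := fun σ τ z => by
          obtain ⟨a, rfl⟩ := Ideal.Quotient.mk_surjective z
          exact congrArg (Ideal.Quotient.mk J) (mul_smul σ τ a)
        smul_zero := fun σ => map_zero (Ideal.quotientMap J (MulSemiringAction.toRingHom G A σ) (hstab σ))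
        smul_add := fun σ => map_add (Ideal.quotientMap J (MulSemiringAction.toRingHom G A σ) (hstab σ)) }
    have hpz : ∀ z : A ⧸ J, p • z = 0 := fun z => by
      obtain ⟨a, rfl⟩ := Ideal.Quotient.mk_surjective z
      rw [← map_nsmul, nsmul_eq_mul, CharP.cast_eq_zero, zero_mul, map_zero]
    obtain ⟨y, hy, hy0, hyfix⟩ := exists_fixed_mem_closure p hpz G hG (Ideal.Quotient.mk J x)
      (fun h => hxJ (Ideal.Quotient.eq_zero_iff_mem.1 h))
    obtain ⟨y', hy'm, rfl⟩ : ∃ y' ∈ maximalIdeal A, Ideal.Quotient.mk J y' = y := by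
      have hle : AddSubgroup.closure (Set.range fun g : G => g • Ideal.Quotient.mk J x) ≤
          ((maximalIdeal A).map (Ideal.Quotient.mk J)).toAddSubgroup := by
        rw [AddSubgroup.closure_le]
        rintro _ ⟨g, rfl⟩
        exact Ideal.mem_map_of_mem (Ideal.Quotient.mk J) (hsm g x hx)
      exact (Ideal.mem_map_iff_of_surjective _ Ideal.Quotient.mk_surjective).1 (hle hy)
    refine ⟨Fin.snoc u ⟨y', hy'm⟩, ?_, fun σ l => ?_⟩
    · have : (fun l => (maximalIdeal A).toCotangent ((Fin.snoc u ⟨y', hy'm⟩ : Fin (i + 1) → maximalIdeal A) l)) =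
          Fin.snoc (fun l => (maximalIdeal A).toCotangent (u l)) ((maximalIdeal A).toCotangent ⟨y', hy'm⟩) :=
        Fin.comp_snoc (fun z => (maximalIdeal A).toCotangent z) u _
      rw [this, linearIndependent_finSnoc]
      exact ⟨hli, fun h => hy0 (Ideal.Quotient.eq_zero_iff_mem.2 ((mem_span_cotangent_iff u ⟨y', hy'm⟩).1 h))⟩
    · induction l using Fin.lastCases with
      | last =>
        rw [Fin.snoc_last]
        have h1 : σ • y' - y' ∈ J := Ideal.Quotient.eq.1 (hyfix σ)
        have hle : J ≤ Ideal.span ((fun l => ((Fin.snoc u ⟨y', hy'm⟩ : Fin (i + 1) → maximalIdeal A) l : A)) ''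
            {j | j ≤ Fin.last i}) ⊔ maximalIdeal A ^ 2 :=
          sup_le_sup_right (Ideal.span_mono (by
            rintro _ ⟨l, rfl⟩
            exact ⟨l.castSucc, Fin.le_last _, by simp⟩)) _
        rw [← sub_add_cancel (σ • y') y']
        exact add_mem (hle h1) (Submodule.mem_sup_left (Ideal.subset_span ⟨Fin.last i, (show Fin.last i ≤ Fin.last i from le_rfl), by simp⟩))
      | cast l =>
        rw [Fin.snoc_castSucc]
        refine mem_sup_mono (Ideal.span_mono ?_) (htri σ l)
        rintro _ ⟨j, hj, rfl⟩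
        exact ⟨j.castSucc, Fin.castSucc_le_castSucc_iff.2 hj, by simp⟩

end Groth.Agent.WildRam
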