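import Mathlib
import Groth.Agent.S0581

/-!
Finite groups acting on complete local rings with a field of representatives.
-/

set_option autoImplicit false
set_option linter.style.haveILetI false
universe u v w

open IsLocalRing Polynomial

noncomputable section

namespace Groth.Agent.WildRam

variable {A : Type u} [CommRing A] [IsLocalRing A] {G : Type w} [Group G] [MulSemiringAction G A]

lemma smul_mem_maximalIdeal_iff (σ : G) {x : A} : σ • x ∈ maximalIdeal A ↔ x ∈ maximalIdeal A := by
  rw [mem_maximalIdeal, mem_maximalIdeal, mem_nonunits_iff, mem_nonunits_iff]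
  refine not_congr ⟨fun h => ?_, fun h => h.map (MulSemiringAction.toRingHom G A σ)⟩
  simpa using h.map (MulSemiringAction.toRingHom G A σ⁻¹)

lemma smul_mem_pow (σ : G) {n : ℕ} {x : A} (hx : x ∈ maximalIdeal A ^ n) : σ • x ∈ maximalIdeal A ^ n := by
  have h := Ideal.mem_map_of_mem (MulSemiringAction.toRingHom G A σ) hx
  rw [Ideal.map_pow] at h
  refine Ideal.pow_right_mono (Ideal.map_le_iff_le_comap.2 fun y hy => ?_) n h
  exact (smul_mem_maximalIdeal_iff σ).2 hy

section Coeff

variable {k : Type v} [Field k] [Algebra k A]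
  (hk : Function.Surjective (residue A ∘ algebraMap k A)) (hGk : ∀ (σ : G) (c : k), σ • algebraMap k A c = algebraMap k A c)

include hk in
lemma exists_rep (x : A) : ∃ c : k, x - algebraMap k A c ∈ maximalIdeal A := by
  obtain ⟨c, hc⟩ := hk (residue A x)
  exact ⟨c, Ideal.Quotient.eq.1 hc.symm⟩

include hk hGk in
lemma smul_sub_mem (σ : G) (x : A) : σ • x - x ∈ maximalIdeal A := by
  obtain ⟨c, hc⟩ := exists_rep hk x
  rw [show σ • x - x = σ • (x - algebraMap k A c) - (x - algebraMap k A c) by rw [smul_sub, hGk]; ring]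
  exact sub_mem ((smul_mem_maximalIdeal_iff σ).2 hc) hc

include hk hGk in
/-- An automorphism moves everything into an ideal containing its displacements of generators of `m`. -/
theorem smul_sub_mem_of_gens [IsNoetherianRing A] (σ : G) {n : ℕ} {v : Fin n → A}
    (hv : Ideal.span (Set.range v) = maximalIdeal A) {F : Ideal A} (hF : ∀ i, σ • v i - v i ∈ F) :
    ∀ x : A, σ • x - x ∈ F := by
  intro x
  by_cases hFt : F = ⊤
  · rw [hFt]; exact Submodule.mem_top
  have key : ∀ N : ℕ, ∀ x : A, σ • x - x ∈ F ⊔ maximalIdeal A ^ N := by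
    intro N
    induction N with
    | zero => intro x; rw [pow_zero, Ideal.one_eq_top, sup_top_eq]; exact Submodule.mem_top
    | succ N ih =>
      intro x
      obtain ⟨c, hc⟩ := exists_rep hk x
      obtain ⟨a, ha⟩ := Ideal.mem_span_range_iff_exists_fun.1 (hv ▸ hc : x - algebraMap k A c ∈ Ideal.span (Set.range v))
      rw [show σ • x - x = σ • (∑ i, a i * v i) - ∑ i, a i * v i by rw [ha, smul_sub, hGk]; ring,
        Finset.smul_sum, ← Finset.sum_sub_distrib]
      refine sum_mem fun i _ => ?_
      rw [smul_mul', show σ • a i * σ • v i - a i * v i = σ • a i * (σ • v i - v i) + (σ • a i - a i) * v i by ring]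
      refine add_mem (Ideal.mem_sup_left (F.mul_mem_left _ (hF i))) ?_
      obtain ⟨y, hy, z, hz, hyz⟩ := Submodule.mem_sup.1 (ih (a i))
      rw [← hyz, add_mul]
      refine Submodule.add_mem_sup (F.mul_mem_right _ hy) ?_
      rw [pow_succ]
      exact Ideal.mul_mem_mul hz (hv ▸ Ideal.subset_span ⟨i, rfl⟩)
  haveI : Nontrivial (A ⧸ F) := Ideal.Quotient.nontrivial_iff.2 hFt
  haveI : IsLocalRing (A ⧸ F) := IsLocalRing.of_surjective' (Ideal.Quotient.mk F) Ideal.Quotient.mk_surjective
  refine Ideal.Quotient.eq_zero_iff_mem.1 ?_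
  have hinf := Ideal.iInf_pow_eq_bot_of_isLocalRing ((maximalIdeal A).map (Ideal.Quotient.mk F)) (by
    intro h
    have h1 : (1 : A ⧸ F) ∈ (maximalIdeal A).map (Ideal.Quotient.mk F) := h ▸ Submodule.mem_top
    obtain ⟨y, hy, hy1⟩ := (Ideal.mem_map_iff_of_surjective _ Ideal.Quotient.mk_surjective).1 h1
    rw [← map_one (Ideal.Quotient.mk F), Ideal.Quotient.eq] at hy1
    exact (maximalIdeal.isMaximal A).ne_top ((Ideal.eq_top_iff_one _).2
      (by simpa using sub_mem hy (le_maximalIdeal hFt hy1))))
  rw [← Ideal.mem_bot, ← hinf, Submodule.mem_iInf]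
  intro N
  obtain ⟨y, hy, z, hz, hyz⟩ := Submodule.mem_sup.1 (key N x)
  rw [← hyz, map_add, Ideal.Quotient.eq_zero_iff_mem.2 hy, zero_add, ← Ideal.map_pow]
  exact Ideal.mem_map_of_mem _ hz

end Coeff

section Fixed

set_option linter.overlappingInstances false

variable [IsRegularLocalRing A] {k : Type v} [Field k] [Algebra k A]
  (hk : Function.Surjective (residue A ∘ algebraMap k A)) (hGk : ∀ (σ : G) (c : k), σ • algebraMap k A c = algebraMap k A c)
  (hram : ∀ P : Ideal A, P.IsPrime → P ≠ maximalIdeal A → P.inertia G = ⊥)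

include hk hGk hram in
/-- An action ramified only at the origin fixes no parameter. -/
theorem exists_smul_ne [Nontrivial G] {v : A} (hv : v ∈ maximalIdeal A) (hv2 : v ∉ maximalIdeal A ^ 2) :
    ∃ σ : G, σ • v ≠ v := by
  by_contra! hfix
  obtain ⟨σ, hσ⟩ := exists_ne (1 : G)
  have hv0 : (maximalIdeal A).toCotangent ⟨v, hv⟩ ≠ 0 := fun h => hv2 ((Ideal.toCotangent_eq_zero _ _).1 h)
  let K := ResidueField A
  have hli : LinearIndepOn K id ({(maximalIdeal A).toCotangent ⟨v, hv⟩} : Set (CotangentSpace A)) := LinearIndepOn.singleton hv0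
  obtain ⟨b, hb⟩ : ∃ b : Module.Basis (hli.extend (Set.subset_univ _)) K (CotangentSpace A), ∀ i, b i = i :=
    ⟨Module.Basis.extend hli, fun i => Module.Basis.extend_apply_self hli i⟩
  have hmem := hli.subset_extend (Set.subset_univ _) (Set.mem_singleton _)
  haveI : Finite ↑(hli.extend (Set.subset_univ _)) := Module.Finite.finite_basis b
  haveI := Fintype.ofFinite ↑(hli.extend (Set.subset_univ _))
  let ι := ↥(hli.extend (Set.subset_univ _))
  classical
  choose w hw using fun i : ι => (maximalIdeal A).toCotangent_surjective (b i)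
  let i₀ : ι := ⟨_, hmem⟩
  let u : ι → maximalIdeal A := Function.update w i₀ ⟨v, hv⟩
  have hu : ∀ i, (maximalIdeal A).toCotangent (u i) = b i := fun i => by
    rcases eq_or_ne i i₀ with rfl | hi
    · simp only [u, Function.update_self]
      exact (hb i₀).symm
    · simp only [u, Function.update_of_ne hi, hw]
  have hspan : Ideal.span (Set.range fun i => (u i : A)) = maximalIdeal A := by
    have h1 : Submodule.span K ((maximalIdeal A).toCotangent '' Set.range u) = ⊤ := by
      rw [← Set.range_comp, show (⇑(maximalIdeal A).toCotangent ∘ u) = ⇑b from funext hu, b.span_eq]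
    have h2 := congrArg (Submodule.map (maximalIdeal A).subtype) (CotangentSpace.span_image_eq_top_iff.1 h1)
    rw [Submodule.map_span, Submodule.map_top, Submodule.range_subtype, ← Set.range_comp] at h2
    exact h2
  let T : Finset A := ((Finset.univ : Finset ι).erase i₀).image fun i => σ • (u i : A) - u i
  let F : Ideal A := Ideal.span (T : Set A)
  have hF : ∀ i, σ • (u i : A) - u i ∈ F := fun i => by
    rcases eq_or_ne i i₀ with rfl | hi
    · simp [u, hfix σ]
    · exact Ideal.subset_span (Finset.mem_image.2 ⟨i, Finset.mem_erase.2 ⟨hi, Finset.mem_univ i⟩, rfl⟩)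
  let e := Fintype.equivFin ι
  have hall := smul_sub_mem_of_gens hk hGk σ (v := fun j => (u (e.symm j) : A)) (by
    refine Eq.trans ?_ hspan
    congr 1
    exact e.symm.surjective.range_comp fun i => (u i : A)) (F := F) fun j => hF _
  have hFm : F ≤ maximalIdeal A := Ideal.span_le.2 fun y hy => by
    obtain ⟨i, -, rfl⟩ := Finset.mem_image.1 hy
    exact smul_sub_mem hk hGk σ _
  obtain ⟨P, hP, hPm⟩ := Ideal.exists_minimalPrimes_le (J := maximalIdeal A) hFm
  have hne : P ≠ maximalIdeal A := fun h => by
    have h1 : P.height ≤ (Fintype.card ι - 1 : ℕ) := by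
      refine (Ideal.height_le_spanRank_toENat_of_mem_minimalPrimes F P hP).trans ?_
      refine (Cardinal.toENat.monotone' (Submodule.spanRank_span_le_card (T : Set A))).trans ?_
      show Cardinal.toENat (Cardinal.mk T) ≤ _
      rw [Cardinal.mk_coe_finset, map_natCast, Nat.cast_le]
      exact Finset.card_image_le.trans (le_of_eq ((Finset.card_erase_of_mem (Finset.mem_univ i₀)).trans (by rw [Finset.card_univ])))
    have h2 : (maximalIdeal A).height = (Fintype.card ι : ℕ∞) := by
      have h3 : ((maximalIdeal A).height : WithBot ℕ∞) = ((maximalIdeal A).spanFinrank : WithBot ℕ∞) :=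
        maximalIdeal_height_eq_ringKrullDim.trans IsRegularLocalRing.spanFinrank_maximalIdeal.symm
      rw [IsLocalRing.spanFinrank_maximalIdeal_eq_finrank_cotangentSpace, Module.finrank_eq_card_basis b] at h3
      exact_mod_cast h3
    rw [h, h2, Nat.cast_le] at h1
    have : 0 < Fintype.card ι := Fintype.card_pos_iff.2 ⟨i₀⟩
    omega
  have h1 : σ ∈ P.inertia G := fun x => hP.1.2 (hall x)
  rw [hram P hP.1.1 hne] at h1
  exact hσ (Subgroup.mem_bot.1 h1)

end Fixed

section Invariants

variable [IsNoetherianRing A] [IsAdicComplete (maximalIdeal A) A] [Finite G] {k : Type v} [Field k] [Algebra k A]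
  (hk : Function.Surjective (residue A ∘ algebraMap k A)) (hGk : ∀ (σ : G) (c : k), σ • algebraMap k A c = algebraMap k A c)

include hk hGk in
/-- A complete local ring is finite over a power series ring of invariants. -/
theorem exists_powerSeries_invariant :
    ∃ (P : Type u) (_ : CommRing P) (_ : IsLocalRing P) (_ : IsNoetherianRing P) (_ : IsAdicComplete (maximalIdeal P) P)
      (ψ : P →+* A), ψ.Finite ∧ (∀ (σ : G) (f : P), σ • ψ f = ψ f) ∧ ∀ f ∈ maximalIdeal P, ψ f ∈ maximalIdeal A := by
  classical
  letI : Fintype G := Fintype.ofFinite G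
  obtain ⟨n, v, hv⟩ := Submodule.fg_iff_exists_fin_generating_family.1 (IsNoetherian.noetherian (maximalIdeal A))
  have hvm : ∀ i, v i ∈ maximalIdeal A := fun i => hv ▸ Submodule.subset_span ⟨i, rfl⟩
  let g := Fintype.card G
  let c : Fin n × Fin g → A := fun q => (MulSemiringAction.charpoly G (v q.1)).coeff (q.2 : ℕ)
  let m := Fintype.card (Fin n × Fin g)
  let a : Fin m → A := fun j => c ((Fintype.equivFin _).symm j)
  have hdeg : ∀ x : A, (MulSemiringAction.charpoly G x).natDegree = g := fun x => by
    rw [MulSemiringAction.charpoly_eq, natDegree_prod_of_monic _ _ fun σ _ => monic_X_sub_C _]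
    simp [g]
  have hcm : ∀ q, c q ∈ maximalIdeal A := fun q => by
    rw [← residue_eq_zero_iff, ← coeff_map, MulSemiringAction.charpoly_eq, Polynomial.map_prod]
    simp only [Polynomial.map_sub, map_X, map_C, (residue_eq_zero_iff _).2 ((smul_mem_maximalIdeal_iff _).2 (hvm q.1)),
      C_0, sub_zero, Finset.prod_const, Finset.card_univ, coeff_X_pow]
    rw [if_neg (ne_of_lt q.2.2)]
  have hfix : ∀ (σ : G) q, σ • c q = c q := fun σ q => MulSemiringAction.smul_coeff_charpoly _ _ σ
  let k' := (algebraMap k A).range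
  have hk'f : IsField k' := (RingEquiv.ofBijective (algebraMap k A).rangeRestrict
    ⟨fun x y h => (algebraMap k A).injective (congrArg Subtype.val h), RingHom.rangeRestrict_surjective _⟩).toMulEquiv.symm.isField
      (Field.toIsField k)
  letI : Field k' := hk'f.toField
  haveI : IsAdicComplete (maximalIdeal k') k' := by
    rw [IsLocalRing.isField_iff_maximalIdeal_eq.mp hk'f]
    infer_instance
  haveI := Cohen.isRegularLocalRing_mvPowerSeries k' m
  let P := MvPowerSeries (Fin m) k'
  haveI : IsAdicComplete (maximalIdeal P) P := ArtKit.isAdicComplete_mvPowerSeries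
  obtain ⟨ψ, hψ⟩ := ArtKit.exists_evalAdic (R := k') (maximalIdeal A) a fun j => hcm _
  have hψm : ∀ f ∈ maximalIdeal P, ψ f ∈ maximalIdeal A := fun f hf => by
    obtain ⟨d, hd⟩ := Ideal.mem_span_range_iff_exists_fun.mp (ArtPow.sub_C_constantCoeff_mem f)
    have h0 : MvPowerSeries.constantCoeff f = 0 := by
      by_contra h
      exact hf (MvPowerSeries.isUnit_iff_constantCoeff.2 (isUnit_iff_ne_zero.2 h))
    rw [h0, map_zero, sub_zero] at hd
    rw [← hd, map_sum]
    refine sum_mem fun j _ => ?_
    rw [map_mul, hψ]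
    exact Ideal.mul_mem_left _ _ (hcm _)
  refine ⟨P, inferInstance, inferInstance, inferInstance, inferInstance, ψ.toRingHom, ?_, fun σ f => ?_, hψm⟩
  · letI : Algebra P A := ψ.toRingHom.toAlgebra
    have hres : Function.Surjective ((residue A).comp (algebraMap P A)) := fun z => by
      obtain ⟨c₀, hc₀⟩ := hk z
      refine ⟨algebraMap k' P ⟨_, c₀, rfl⟩, ?_⟩
      show residue A (ψ (algebraMap k' P _)) = z
      rw [ψ.commutes]
      exact hc₀
    let J := (maximalIdeal P).map (algebraMap P A)
    have hJm : J ≤ maximalIdeal A := Ideal.map_le_iff_le_comap.2 fun f hf => hψm f hf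
    obtain ⟨N, hN⟩ : ∃ N, maximalIdeal A ^ N ≤ J := by
      refine Ideal.exists_pow_le_of_le_radical_of_fg ?_ (IsNoetherian.noetherian _)
      rw [Ideal.radical_eq_sInf]
      refine le_sInf fun Q hQ => ?_
      rw [← hv]
      refine Ideal.span_le.2 ?_
      rintro _ ⟨i, rfl⟩
      have hc : ∀ j : Fin g, c (i, j) ∈ Q := fun j => by
        have h1 : a (Fintype.equivFin _ (i, j)) ∈ Q := by
          rw [← hψ]
          refine hQ.1 (Ideal.mem_map_of_mem (algebraMap P A) fun hu => ?_)
          have := MvPowerSeries.isUnit_iff_constantCoeff.mp hu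
          rw [MvPowerSeries.constantCoeff_X] at this
          exact not_isUnit_zero this
        simpa [a] using h1
      have h2 := MulSemiringAction.eval_charpoly G (v i)
      rw [eval_eq_sum_range, hdeg, Finset.sum_range_succ,
        show (MulSemiringAction.charpoly G (v i)).coeff g = 1 from hdeg (v i) ▸ (MulSemiringAction.monic_charpoly G (v i)),
        one_mul] at h2
      refine hQ.2.mem_of_pow_mem g ?_
      rw [eq_neg_of_add_eq_zero_right h2]
      exact Q.neg_mem (sum_mem fun j hj => Q.mul_mem_right _ (hc ⟨j, Finset.mem_range.1 hj⟩))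
    haveI : IsHausdorff (maximalIdeal P) A := ⟨fun x hx => IsHausdorff.haus' (I := maximalIdeal A) x fun l => by
      have h := hx l
      rw [SModEq.sub_mem, sub_zero] at h ⊢
      rw [Ideal.smul_top_eq_map, Submodule.restrictScalars_mem, Ideal.map_pow] at h
      rw [smul_eq_mul, Ideal.mul_top]
      exact Ideal.pow_right_mono hJm l h⟩
    haveI := S0581.finite_quotient hres J N hN
    haveI : Module.Finite P (A ⧸ (maximalIdeal P • ⊤ : Submodule P A)) :=
      Module.Finite.equiv ((Submodule.Quotient.restrictScalarsEquiv P J).symm ≪≫ₗ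
        Submodule.quotEquivOfEq _ _ (Ideal.smul_top_eq_map (maximalIdeal P)).symm)
    exact S0544.result P (maximalIdeal P) A inferInstance
  · let s : A →ₐ[k'] A :=
      { MulSemiringAction.toRingHom G A σ with
        commutes' := fun r => by
          obtain ⟨c₀, hc₀⟩ := r.2
          show σ • (r : A) = (r : A)
          rw [← hc₀]
          exact hGk σ c₀ }
    have h := ArtKit.algHom_ext_adic (φ := s.comp ψ) (ψ := ψ) (maximalIdeal A) (fun j => by
      show σ • ψ _ = ψ _
      rw [hψ]
      exact hfix σ _) (fun j => by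
      show σ • ψ _ ∈ maximalIdeal A
      rw [hψ]
      exact (smul_mem_maximalIdeal_iff σ).2 (hcm _))
    exact DFunLike.congr_fun h f

end Invariants

end Groth.Agent.WildRam
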