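import Groth.Agent.WildRam.Fix
import Groth.Agent.InvGen.Sep
import Groth.Agent.SegreDim.Noether
import Groth.Agent.RegLoc.Normal
import Groth.Agent.SerreReg.Descent

/-!
Quotients of complete regular local rings by groups of prime order ramified only at the origin.
-/

set_option autoImplicit false
set_option linter.style.haveILetI false
set_option linter.unusedSectionVars false
set_option linter.overlappingInstances false
universe u v w

open IsLocalRing

noncomputable section

namespace Groth.Agent.WildRam

variable {A : Type u} [CommRing A] [IsDomain A] [IsLocalRing A] {G : Type w} [Group G] [MulSemiringAction G A]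

local notation "B" => FixedPoints.subring A G

lemma coe_fixed (b : B) (σ : G) : σ • (b : A) = b := b.2 σ

/-- Invariants form a local ring. -/
theorem isUnit_fixed_iff (b : B) : IsUnit b ↔ IsUnit (b : A) := by
  refine ⟨fun h => h.map (B).subtype, fun h => ?_⟩
  obtain ⟨c, hc⟩ := h.exists_right_inv
  have hcf : c ∈ B := fun σ => h.mul_left_cancel (by
    rw [hc, ← coe_fixed b σ, ← smul_mul', hc, smul_one])
  exact IsUnit.of_mul_eq_one ⟨c, hcf⟩ (Subtype.ext hc)

instance isLocalRing_fixed : IsLocalRing B :=
  IsLocalRing.of_nonunits_add fun a b ha hb => by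
    rw [mem_nonunits_iff, isUnit_fixed_iff] at ha hb ⊢
    exact (maximalIdeal A).add_mem ha hb

lemma comap_maximalIdeal : (maximalIdeal A).comap (B).subtype = maximalIdeal B :=
  Ideal.ext fun b => (not_congr (isUnit_fixed_iff b)).symm

instance isInvariant_fixed : Algebra.IsInvariant B A G := ⟨fun a h => ⟨⟨a, h⟩, rfl⟩⟩

variable [Finite G]

instance isIntegral_fixed : Algebra.IsIntegral B A := Algebra.IsInvariant.isIntegral B A G

lemma ringKrullDim_fixed : ringKrullDim B = ringKrullDim A :=
  SegreDim.ringKrullDim_eq_of_injective_integral (A := (B : Subring A)) Subtype.val_injective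

theorem isIntegrallyClosed_fixed [IsIntegrallyClosed A] : IsIntegrallyClosed B := by
  refine (isIntegrallyClosed_iff (FractionRing B)).2 fun {x} hx => ?_
  obtain ⟨b, c, hc, rfl⟩ := IsFractionRing.div_surjective (A := B) x
  let f : FractionRing B →+* FractionRing A :=
    IsFractionRing.lift (g := (algebraMap A (FractionRing A)).comp (B).subtype)
      ((IsFractionRing.injective A (FractionRing A)).comp Subtype.val_injective)
  have hf : ∀ z : B, f (algebraMap B (FractionRing B) z) = algebraMap A (FractionRing A) z := fun z =>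
    IsFractionRing.lift_algebraMap _ z
  have hint : IsIntegral A (f (algebraMap B (FractionRing B) b / algebraMap B (FractionRing B) c)) := by
    obtain ⟨q, hq, hq0⟩ := hx
    refine ⟨q.map (B).subtype, hq.map _, ?_⟩
    have h2 := congrArg f hq0
    rw [map_zero, Polynomial.hom_eval₂] at h2
    rw [Polynomial.eval₂_map]
    rw [show f.comp (algebraMap B (FractionRing B)) = (algebraMap A (FractionRing A)).comp (B).subtype from
      RingHom.ext fun z => hf z] at h2
    exact h2
  obtain ⟨a, ha⟩ := IsIntegrallyClosed.isIntegral_iff.1 hint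
  have hc0 : (c : A) ≠ 0 := fun h => nonZeroDivisors.ne_zero hc (Subtype.ext h)
  rw [map_div₀, hf, hf, eq_div_iff (by simpa using hc0), ← map_mul] at ha
  have hac : a * c = b := IsFractionRing.injective A (FractionRing A) ha
  have haf : a ∈ B := fun σ => mul_right_cancel₀ hc0 (by
    rw [hac]
    conv_lhs => rw [← coe_fixed c σ, ← smul_mul', hac, coe_fixed b σ])
  refine ⟨⟨a, haf⟩, ?_⟩
  rw [eq_div_iff ((map_ne_zero_iff _ (IsFractionRing.injective B (FractionRing B))).2 (nonZeroDivisors.ne_zero hc)), ← map_mul]
  exact congrArg _ (Subtype.ext hac)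

section Complete

variable [IsNoetherianRing A] [IsAdicComplete (maximalIdeal A) A] {k : Type v} [Field k] [Algebra k A]
  (hk : Function.Surjective (residue A ∘ algebraMap k A)) (hGk : ∀ (σ : G) (c : k), σ • algebraMap k A c = algebraMap k A c)

include hk hGk in
theorem finite_fixed : IsNoetherianRing B ∧ Module.Finite B A ∧ IsAdicComplete (maximalIdeal B) B := by
  obtain ⟨P, _, _, _, _, ψ, hfin, hψ, hψm⟩ := exists_powerSeries_invariant (G := G) hk hGk
  letI : Algebra P A := ψ.toAlgebra
  haveI : Module.Finite P A := hfin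
  let ψ' : P →+* B := ψ.codRestrict B fun f σ => hψ σ f
  letI : Algebra P B := ψ'.toAlgebra
  haveI : IsScalarTower P B A := IsScalarTower.of_algebraMap_eq fun _ => rfl
  let inc : (B : Subring A) →ₗ[P] A := (IsScalarTower.toAlgHom P B A).toLinearMap
  haveI : IsNoetherian P A := isNoetherian_of_isNoetherianRing_of_finite P A
  haveI : IsNoetherian P B := isNoetherian_of_injective inc Subtype.val_injective
  haveI : IsNoetherianRing B := isNoetherianRing_iff.2 (isNoetherian_of_tower P inferInstance)
  haveI : Module.Finite B A := Module.Finite.of_restrictScalars_finite P B A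
  haveI : Module.Finite P B := Module.IsNoetherian.finite P B
  refine ⟨inferInstance, inferInstance, ?_⟩
  haveI hP : IsAdicComplete (maximalIdeal P) B := AdicLim.isAdicComplete_of_finite (maximalIdeal P) B
  haveI : Algebra.IsIntegral P B := Algebra.IsIntegral.of_finite P B
  set J := maximalIdeal B
  set I := (maximalIdeal P).map (algebraMap P B)
  have hIJ : I ≤ J := Ideal.map_le_iff_le_comap.2 fun f hf => by
    show ψ' f ∈ maximalIdeal B
    rw [mem_maximalIdeal, mem_nonunits_iff, isUnit_fixed_iff]
    exact hψm f hf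
  obtain ⟨N, hN⟩ : ∃ N, J ^ N ≤ I := by
    refine Ideal.exists_pow_le_of_le_radical_of_fg ?_ (IsNoetherian.noetherian _)
    rw [Ideal.radical_eq_sInf]
    refine le_sInf fun Q hQ => ?_
    haveI := hQ.2
    haveI : (Q.comap (algebraMap P B)).IsMaximal := by
      rw [← (maximalIdeal.isMaximal P).eq_of_le (Ideal.comap_ne_top _ hQ.2.ne_top) (Ideal.map_le_iff_le_comap.1 hQ.1)]
      exact maximalIdeal.isMaximal P
    exact (IsLocalRing.eq_maximalIdeal (Ideal.isMaximal_of_isIntegral_of_isMaximal_comap Q ‹_›)).ge
  have hsmul : ∀ (n : ℕ) (z : B), z ∈ (maximalIdeal P ^ n • ⊤ : Submodule P B) ↔ z ∈ I ^ n := fun n z => by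
    rw [Ideal.smul_top_eq_map, Submodule.restrictScalars_mem, Ideal.map_pow]
  refine { haus' := fun x hx => ?_, prec' := fun f hf => ?_ }
  · refine IsHausdorff.haus' (I := maximalIdeal P) x fun n => ?_
    have h := hx (N * n)
    rw [SModEq.sub_mem, sub_zero] at h ⊢
    rw [smul_eq_mul, Ideal.mul_top, pow_mul] at h
    exact (hsmul n x).2 (Ideal.pow_right_mono hN n h)
  · have hf' : ∀ {a b : ℕ}, a ≤ b → f a - f b ∈ J ^ a := fun hab => by
      have h := hf hab
      rwa [SModEq.sub_mem, smul_eq_mul, Ideal.mul_top] at h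
    obtain ⟨L, hL⟩ := IsPrecomplete.prec' (I := maximalIdeal P) (M := B) (fun n => f (N * n)) (fun {a b} hab => by
      rw [SModEq.sub_mem, hsmul]
      have h := hf' (Nat.mul_le_mul_left N hab)
      rw [pow_mul] at h
      exact Ideal.pow_right_mono hN a h)
    refine ⟨L, fun n => ?_⟩
    rw [SModEq.sub_mem, smul_eq_mul, Ideal.mul_top]
    have h1 := hL n
    rw [SModEq.sub_mem, hsmul] at h1
    rcases Nat.eq_zero_or_pos N with rfl | hN0
    · exfalso
      rw [pow_zero, Ideal.one_eq_top] at hN
      exact (maximalIdeal.isMaximal B).ne_top (top_le_iff.1 (hN.trans hIJ))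
    · rw [← sub_add_sub_cancel (f n) (f (N * n)) L]
      exact add_mem (hf' (Nat.le_mul_of_pos_left n hN0)) (Ideal.pow_right_mono hIJ n h1)

end Complete

section Ramified

variable (hram : ∀ P : Ideal A, P.IsPrime → P ≠ maximalIdeal A → P.inertia G = ⊥)

/-- The trace to the invariants. -/
def tr [Fintype G] : A →ₗ[(B : Subring A)] (B : Subring A) where
  toFun a := ⟨∑ σ : G, σ • a, fun τ => by
    simp only [Finset.smul_sum, ← mul_smul]
    exact Fintype.sum_equiv (Equiv.mulLeft τ) _ _ fun _ => rfl⟩
  map_add' a b := Subtype.ext (by simp [smul_add, Finset.sum_add_distrib])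
  map_smul' c a := Subtype.ext (by
    simp only [RingHom.id_apply]
    show ∑ σ : G, σ • ((c : A) * a) = (c : A) * ∑ σ : G, σ • a
    rw [Finset.mul_sum]
    exact Finset.sum_congr rfl fun σ _ => by rw [smul_mul', coe_fixed c σ])

variable [IsNoetherianRing (FixedPoints.subring A G)] [Module.Finite (FixedPoints.subring A G) A]

include hram in
/-- Dual systems for the trace away from the origin. -/
theorem exists_dual [Fintype G] (hG : ∀ g h : G, g * h = h * g) (Q : Ideal B) [Q.IsPrime] (hQ : ¬ Q.IsMaximal) :
    ∃ s ∉ Q, ∃ (ι : Type) (_ : Fintype ι) (x y : ι → A), ∀ a : A, ∑ k, tr (G := G) (y k * a) • x k = s • a := by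
  classical
  letI : CommGroup G := { ‹Group G› with mul_comm := hG }
  obtain ⟨s, hs, ι, _, x, y, -, -, hsum, hzero⟩ := InvGen.exists_chr (R := (B : Subring A)) (A := A) (H := G)
    Subtype.val_injective (p := Q) (K := ⊥) (fun P hP hPQ => (hram P hP fun hPm => hQ (by
      rw [← hPQ, hPm, show algebraMap (B : Subring A) A = (B).subtype from rfl, comap_maximalIdeal]
      exact maximalIdeal.isMaximal _)).le)
    ((Finset.univ : Finset G).filter fun σ => σ ≠ 1) (fun σ hσ => by simpa using (Finset.mem_filter.1 hσ).2)
  refine ⟨s, hs, ι, inferInstance, x, y, fun a => ?_⟩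
  show ∑ k, (∑ σ : G, σ • (y k * a)) * x k = (s : A) * a
  simp only [Finset.sum_mul]
  rw [Finset.sum_comm, Finset.sum_eq_single (1 : G)]
  · simp only [one_smul]
    rw [show (s : A) = algebraMap (B : Subring A) A s from rfl, ← hsum, Finset.sum_mul]
    exact Finset.sum_congr rfl fun k _ => by ring
  · intro σ _ hσ
    rw [show ∑ k, σ • (y k * a) * x k = (∑ k, x k * σ • y k) * σ • a by
      rw [Finset.sum_mul]; exact Finset.sum_congr rfl fun k _ => by rw [smul_mul']; ring,
      hzero σ (Finset.mem_filter.2 ⟨Finset.mem_univ σ, hσ⟩), zero_mul]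
  · simp

variable {k : Type v} [Field k] [Algebra k A]
  (hk : Function.Surjective (residue A ∘ algebraMap k A)) (hGk : ∀ (σ : G) (c : k), σ • algebraMap k A c = algebraMap k A c)

include hram hk hGk in
/-- The quotient map is not free. -/
theorem not_free [Nontrivial G] [IsNoetherianRing A] (hG : ∀ g h : G, g * h = h * g) (hdim : 2 ≤ ringKrullDim A) :
    ¬ Module.Free B A := by
  classical
  intro hfree
  letI : Fintype G := Fintype.ofFinite G
  let e := Module.Free.chooseBasis (B : Subring A) A
  haveI : Fintype (Module.Free.ChooseBasisIndex (B : Subring A) A) := inferInstance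
  let M : Matrix (Module.Free.ChooseBasisIndex (B : Subring A) A) (Module.Free.ChooseBasisIndex (B : Subring A) A) (B : Subring A) :=
    fun i j => tr (G := G) (e i * e j)
  have hunit : IsUnit M.det := by
    by_contra hu
    obtain ⟨Q, hQ, hQm⟩ := Ideal.exists_minimalPrimes_le (J := maximalIdeal (B : Subring A))
      ((Ideal.span_singleton_le_iff_mem _).2 ((IsLocalRing.mem_maximalIdeal _).2 hu))
    haveI := hQ.1.1
    have h1 : Q.height ≤ 1 := Ideal.height_le_one_of_isPrincipal_of_mem_minimalPrimes _ Q hQ
    have hne : ¬ Q.IsMaximal := fun hmax => by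
      rw [IsLocalRing.eq_maximalIdeal hmax] at h1
      have h2 : (2 : WithBot ℕ∞) ≤ ((maximalIdeal (B : Subring A)).height : WithBot ℕ∞) := by
        rw [maximalIdeal_height_eq_ringKrullDim, ringKrullDim_fixed]
        exact hdim
      have h3 := h2.trans (WithBot.coe_le_coe.2 h1)
      exact absurd (WithBot.coe_le_coe.1 h3 : (2 : ℕ∞) ≤ 1) (by norm_num)
    obtain ⟨s, hs, ι, _, x, y, hxy⟩ := exists_dual hram hG Q hne
    let yb : Module.Free.ChooseBasisIndex (B : Subring A) A → A := fun l => ∑ q, e.repr (x q) l • y q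
    let N : Matrix (Module.Free.ChooseBasisIndex (B : Subring A) A) (Module.Free.ChooseBasisIndex (B : Subring A) A) (B : Subring A) :=
      fun l i => e.repr (yb l) i
    have hNM : N * M = s • 1 := by
      ext1 l j
      have h2 : (N * M) l j = tr (G := G) (yb l * e j) := by
        conv_rhs => rw [← e.sum_repr (yb l), Finset.sum_mul, map_sum]
        exact Finset.sum_congr rfl fun i _ => by rw [smul_mul_assoc, map_smul]; rfl
      have h3 := congrArg (fun z => e.repr z l) (hxy (e j))
      simp only [map_sum, map_smul, Module.Basis.repr_self, Finsupp.finsetSum_apply, Finsupp.smul_apply, smul_eq_mul] at h3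
      rw [h2, show yb l * e j = ∑ q, e.repr (x q) l • (y q * e j) by rw [Finset.sum_mul]; exact Finset.sum_congr rfl fun q _ => smul_mul_assoc _ _ _,
        map_sum, Matrix.smul_apply, smul_eq_mul]
      refine (Finset.sum_congr rfl fun q _ => ?_).trans (h3.trans ?_)
      · rw [map_smul, smul_eq_mul, mul_comm]
      · rw [Finsupp.single_apply, Matrix.one_apply]
        simp [eq_comm]
    have h4 := congrArg Matrix.det hNM
    rw [Matrix.det_mul, Matrix.det_smul, Matrix.det_one, mul_one] at h4
    exact hs ((inferInstance : Q.IsPrime).mem_of_pow_mem _ (h4 ▸ Q.mul_mem_left _ (hQ.1.2 (Ideal.mem_span_singleton_self _))))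
  let y : Module.Free.ChooseBasisIndex (B : Subring A) A → A := fun l => ∑ i, M⁻¹ l i • e i
  have hy : ∀ l j, tr (G := G) (y l * e j) = if l = j then 1 else 0 := fun l j => by
    rw [Finset.sum_mul, map_sum]
    refine (Finset.sum_congr rfl fun i _ => ?_).trans ((congrFun (congrFun (Matrix.nonsing_inv_mul M hunit) l) j).trans Matrix.one_apply)
    rw [smul_mul_assoc, map_smul]
    rfl
  have hrec : ∀ a : A, ∑ σ : G, (∑ l, e l * σ • y l) * σ • a = a := fun a => by
    have h5 : ∑ l, ((tr (G := G)).comp (LinearMap.mulLeft (B : Subring A) (y l))).smulRight (e l) = LinearMap.id := e.ext fun j => by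
      simp [LinearMap.sum_apply, hy, ite_smul, Finset.sum_ite_eq']
    have h6 := LinearMap.congr_fun h5 a
    rw [LinearMap.sum_apply] at h6
    refine Eq.trans ?_ h6
    simp only [Finset.sum_mul]
    rw [Finset.sum_comm]
    refine Finset.sum_congr rfl fun l _ => ?_
    show ∑ σ : G, e l * σ • y l * σ • a = (∑ σ : G, σ • (y l * a)) * e l
    rw [Finset.sum_mul]
    exact Finset.sum_congr rfl fun σ _ => by rw [smul_mul']; ring
  haveI hF : FaithfulSMul G A := ⟨fun {g₁ g₂} hg => by
    have h7 : g₂⁻¹ * g₁ ∈ (⊥ : Ideal A).inertia G := fun x => by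
      show (g₂⁻¹ * g₁) • x - x ∈ (⊥ : Ideal A)
      rw [mul_smul, hg, inv_smul_smul, sub_self]
      exact zero_mem _
    rw [hram ⊥ Ideal.isPrime_bot fun h => by
      rw [← maximalIdeal_height_eq_ringKrullDim, ← h, Ideal.height_bot] at hdim
      exact absurd hdim (by norm_num)] at h7
    exact inv_mul_eq_one.1 (Subgroup.mem_bot.1 h7) |>.symm⟩
  have hli : LinearIndependent A (fun σ : G => (fun a : A => σ • a)) :=
    (linearIndependent_monoidHom A A).comp (fun σ : G => (MulSemiringAction.toRingHom G A σ).toMonoidHom)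
      fun g₁ g₂ h => hF.eq_of_smul_eq_smul fun a => DFunLike.congr_fun h a
  let c : G → A := fun σ => ∑ l, e l * σ • y l
  obtain ⟨σ, hσ⟩ := exists_ne (1 : G)
  have hc := Fintype.linearIndependent_iff.1 hli (fun τ => c τ - if τ = 1 then 1 else 0) (funext fun a => by
    rw [Finset.sum_apply]
    simp only [Pi.smul_apply, smul_eq_mul, sub_mul, Finset.sum_sub_distrib, ite_mul, one_mul, zero_mul,
      Finset.sum_ite_eq', Finset.mem_univ, if_true, one_smul, Pi.zero_apply, c]
    rw [hrec a, sub_self])
  have h1 : c 1 = 1 := by simpa [sub_eq_zero] using hc 1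
  have h2 : c σ = 0 := by simpa [sub_eq_zero, hσ] using hc σ
  have h3 : c σ - c 1 ∈ maximalIdeal A := by
    simp only [c, ← Finset.sum_sub_distrib, one_smul, ← mul_sub]
    exact sum_mem fun l _ => Ideal.mul_mem_left _ _ (smul_sub_mem hk hGk σ _)
  rw [h1, h2, zero_sub, neg_mem_iff] at h3
  exact (maximalIdeal.isMaximal A).ne_top ((Ideal.eq_top_iff_one _).2 h3)

omit [IsDomain A] in
lemma flat_of_smul_split {R : Type*} [CommRing R] {M : Type*} [AddCommGroup M] [Module R M] {ι : Type*} [Finite ι] (s : R)
    (L : M →ₗ[R] (ι → R)) (P' : (ι → R) →ₗ[R] M) (h : ∀ a, P' (L a) = s • a) :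
    Module.Flat R (LocalizedModule (Submonoid.powers s) M) := by
  let S := Submonoid.powers s
  let L' := IsLocalizedModule.map S (LocalizedModule.mkLinearMap S M) (LocalizedModule.mkLinearMap S (ι → R)) L
  let P'' := IsLocalizedModule.map S (LocalizedModule.mkLinearMap S (ι → R)) (LocalizedModule.mkLinearMap S M) P'
  have hu : IsUnit (algebraMap R (Module.End R (LocalizedModule S M)) s) :=
    IsLocalizedModule.map_units (LocalizedModule.mkLinearMap S M) ⟨s, Submonoid.mem_powers s⟩
  haveI : Module.Flat (Localization S) (LocalizedModule S (ι → R)) :=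
    Module.Flat.of_isLocalizedModule (Localization S) S (LocalizedModule.mkLinearMap S (ι → R))
  haveI : Module.Flat R (Localization S) := IsLocalization.flat _ S
  haveI : Module.Flat R (LocalizedModule S (ι → R)) := Module.Flat.trans R (Localization S) _
  refine Module.Flat.of_retract (M := LocalizedModule S (ι → R)) L' ((↑hu.unit⁻¹ : Module.End R (LocalizedModule S M)) ∘ₗ P'') ?_
  refine IsLocalizedModule.ext S (LocalizedModule.mkLinearMap S M)
    (IsLocalizedModule.map_units (LocalizedModule.mkLinearMap S M)) ?_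
  refine LinearMap.ext fun a => ?_
  show (↑hu.unit⁻¹ : Module.End R (LocalizedModule S M)) (P'' (L' (LocalizedModule.mkLinearMap S M a))) = LocalizedModule.mkLinearMap S M a
  rw [IsLocalizedModule.map_apply, IsLocalizedModule.map_apply, h, map_smul]
  show (↑hu.unit⁻¹ * algebraMap R (Module.End R (LocalizedModule S M)) s : Module.End R (LocalizedModule S M)) _ = _
  rw [hu.val_inv_mul]
  rfl

end Ramified

end Groth.Agent.WildRam
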