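import Groth.Agent.WildRam.Fix
import Groth.Agent.SerreReg.MiracleFinite
import Groth.Agent.ArtObs.Models
import Groth.Agent.SegreDim.Noether

/-!
# Complete regular local rings are free over power series in a system of parameters
-/

set_option autoImplicit false

universe u v

open IsLocalRing

noncomputable section

namespace Groth.Agent.WildRam

/-- The length of the closed fibre of a finite free local extension. -/
theorem length_closed_fibre {P A : Type u} [CommRing P] [IsLocalRing P] [CommRing A] [IsLocalRing A] [Algebra P A]
    [IsLocalHom (algebraMap P A)] (hres : Function.Surjective ((residue A).comp (algebraMap P A)))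
    {d : ℕ} (B : Module.Basis (Fin d) P A) :
    Module.length A (A ⧸ (maximalIdeal P).map (algebraMap P A)) = d := by
  set J := maximalIdeal P
  set J' := J.map (algebraMap P A)
  have hk : Module.length (ResidueField P) (ResidueField A) = 1 := by
    have hs : Function.Surjective (algebraMap (ResidueField P) (ResidueField A)) := fun y => by
      obtain ⟨r, rfl⟩ := hres y
      exact ⟨residue P r, rfl⟩
    rw [Module.length_eq_of_surjective (M := ResidueField A) hs, Module.length_eq_one]
  let Φ : A →ₗ[P] (Fin d → ResidueField P) :=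
    LinearMap.pi fun e => (Submodule.mkQ J).comp (B.coord e)
  have hsurj : Function.Surjective Φ := fun f => by
    choose g hg using fun e => Submodule.mkQ_surjective J (f e)
    refine ⟨B.equivFun.symm g, funext fun e => ?_⟩
    show Submodule.mkQ J (B.equivFun (B.equivFun.symm g) e) = f e
    rw [LinearEquiv.apply_symm_apply, hg]
  have hker : LinearMap.ker Φ = J'.restrictScalars P := by
    refine le_antisymm (fun t ht => ?_) ?_
    · rw [LinearMap.mem_ker] at ht
      rw [← B.sum_repr t]
      refine Submodule.sum_mem _ fun e _ => ?_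
      rw [Submodule.restrictScalars_mem, ← algebraMap_smul A, smul_eq_mul]
      exact Ideal.mul_mem_right _ _ (Ideal.mem_map_of_mem _ ((Submodule.Quotient.mk_eq_zero _).1 (congrFun ht e)))
    · rw [← Ideal.smul_top_eq_map]
      refine Submodule.smul_le.2 fun r hr t _ => ?_
      rw [LinearMap.mem_ker]
      funext e
      simp only [Φ, LinearMap.pi_apply, LinearMap.comp_apply, map_smul, Submodule.mkQ_apply, Pi.zero_apply]
      exact (Submodule.Quotient.mk_eq_zero _).2 (Ideal.mul_mem_right _ _ hr)
  have e := LinearEquiv.length_eq ((Submodule.quotEquivOfEq _ _ hker).symm.trans (Φ.quotKerEquivOfSurjective hsurj))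
  have h1 := IsLocalRing.length_restrictScalars P A (A ⧸ J')
  rw [hk, mul_one] at h1
  refine h1.symm.trans (((Submodule.Quotient.restrictScalarsEquiv P J').length_eq.symm).trans (e.trans ?_))
  rw [Module.length_pi_of_fintype, Module.length_eq_of_surjective (M := ResidueField P) (residue_surjective (R := P)),
    Module.length_eq_one]
  simp

/-- The same, with the field of coefficients in the universe of the ring. -/
theorem exists_basis_of_sop {A : Type u} [CommRing A] [IsRegularLocalRing A] [IsAdicComplete (maximalIdeal A) A]
    {n : ℕ} (hn : ringKrullDim A = n) {k : Type u} [Field k] [Algebra k A]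
    (hk : Function.Surjective (residue A ∘ algebraMap k A)) (x : Fin n → A)
    (hx : (Ideal.span (Set.range x)).radical = maximalIdeal A)
    (φ : MvPowerSeries (Fin n) k →ₐ[k] A) (hφ : ∀ i, φ (MvPowerSeries.X i) = x i) :
    ∃ (d : ℕ) (b : Fin d → A), (d : ℕ∞) = Module.length A (A ⧸ Ideal.span (Set.range x)) ∧
      Function.Bijective (fun r : Fin d → MvPowerSeries (Fin n) k => ∑ i, φ (r i) * b i) := by
  classical
  let P := MvPowerSeries (Fin n) k
  letI : Algebra P A := φ.toRingHom.toAlgebra
  set J := (maximalIdeal P).map (algebraMap P A) with hJ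
  have hJx : J = Ideal.span (Set.range x) := by
    rw [hJ, ← ArtPow.span_X_eq_maximalIdeal, Ideal.map_span, ← Set.range_comp]
    congr 2
    funext i
    exact hφ i
  have hJm : J ≤ maximalIdeal A := hJx ▸ (Ideal.le_radical.trans hx.le)
  haveI : IsLocalHom (algebraMap P A) := ⟨fun r hr => by_contra fun h =>
    hJm (Ideal.mem_map_of_mem _ ((IsLocalRing.mem_maximalIdeal r).2 h)) hr⟩
  have hres : Function.Surjective ((residue A).comp (algebraMap P A)) := fun z => by
    obtain ⟨c₀, hc₀⟩ := hk z
    refine ⟨algebraMap k P c₀, ?_⟩
    show residue A (φ (algebraMap k P c₀)) = z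
    rw [φ.commutes]
    exact hc₀
  obtain ⟨N, hN⟩ : ∃ N, maximalIdeal A ^ N ≤ J :=
    Ideal.exists_pow_le_of_le_radical_of_fg (by rw [hJx, hx]) (IsNoetherian.noetherian _)
  haveI : IsAdicComplete (maximalIdeal P) P := ArtObs.isAdicComplete_ps k n
  haveI : IsHausdorff (maximalIdeal P) A := ⟨fun x hx => IsHausdorff.haus' (I := maximalIdeal A) x fun l => by
    have h := hx l
    rw [SModEq.sub_mem, sub_zero] at h ⊢
    rw [Ideal.smul_top_eq_map, Submodule.restrictScalars_mem, Ideal.map_pow] at h
    rw [smul_eq_mul, Ideal.mul_top]
    exact Ideal.pow_right_mono hJm l h⟩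
  haveI : Module.Finite P A := by
    haveI := S0581.finite_quotient hres J N hN
    haveI : Module.Finite P (A ⧸ (maximalIdeal P • ⊤ : Submodule P A)) :=
      Module.Finite.equiv ((Submodule.Quotient.restrictScalarsEquiv P J).symm ≪≫ₗ
        Submodule.quotEquivOfEq _ _ (Ideal.smul_top_eq_map (maximalIdeal P)).symm)
    exact S0544.result P (maximalIdeal P) A inferInstance
  have hdimP : (n : WithBot ℕ∞) ≤ ringKrullDim P := ArtObs.dim_ps_ge k n
  have hinj : Function.Injective (algebraMap P A) := by
    rw [injective_iff_map_eq_zero]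
    by_contra hne
    push Not at hne
    obtain ⟨f, hf, hf0⟩ := hne
    haveI : IsDomain P := NoZeroDivisors.to_isDomain _
    set K := RingHom.ker (algebraMap P A)
    have hfK : f ∈ K := hf
    letI : Algebra (P ⧸ K) A := (RingHom.kerLift (algebraMap P A)).toAlgebra
    haveI : IsScalarTower P (P ⧸ K) A := ⟨fun r z w => by
      obtain ⟨z, rfl⟩ := Ideal.Quotient.mk_surjective z
      show algebraMap P A (r * z) * w = algebraMap P A r * (algebraMap P A z * w)
      rw [map_mul, mul_assoc]⟩
    haveI : Module.Finite (P ⧸ K) A := Module.Finite.of_restrictScalars_finite P (P ⧸ K) A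
    haveI : Algebra.IsIntegral (P ⧸ K) A := Algebra.IsIntegral.of_finite _ _
    have h1 : ringKrullDim (P ⧸ K) = n :=
      (SegreDim.ringKrullDim_eq_of_injective_integral (A := P ⧸ K) (B := A)
        (RingHom.kerLift_injective (algebraMap P A))).trans hn
    have h2 : ringKrullDim (P ⧸ K) + 1 ≤ ringKrullDim P :=
      ringKrullDim_succ_le_of_surjective (Ideal.Quotient.mk K) Ideal.Quotient.mk_surjective
        (mem_nonZeroDivisors_of_ne_zero hf0) (Ideal.Quotient.eq_zero_iff_mem.2 hfK)
    have h3 : ringKrullDim P ≤ n := by
      have := (IsRegularLocalRing.spanFinrank_maximalIdeal (R := P)).symm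
      rw [this]
      refine Nat.cast_le.2 ?_
      rw [← ArtPow.span_X_eq_maximalIdeal]
      refine (Submodule.spanFinrank_span_le_ncard_of_finite (Set.finite_range _)).trans ?_
      rw [← Set.image_univ]
      exact (Set.ncard_image_le Set.finite_univ).trans (by simp)
    rw [h1] at h2
    have h4 : ((n + 1 : ℕ) : WithBot ℕ∞) ≤ (n : ℕ) := by push_cast; exact h2.trans h3
    have h5 : n + 1 ≤ n := by exact_mod_cast h4
    omega
  haveI : Module.Free P A := SerreReg.free_of_finite_of_isRegularLocalRing P A hinj
  let B := Module.finBasis P A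
  refine ⟨_, B, ?_, ?_⟩
  · rw [← hJx]
    exact (length_closed_fibre hres B).symm
  · have : (fun r : Fin (Module.finrank P A) → P => ∑ i, φ (r i) * B i) = B.equivFun.symm := by
      funext r
      rw [B.equivFun_symm_apply]
      exact Finset.sum_congr rfl fun i _ => rfl
    exact this ▸ B.equivFun.symm.bijective

end Groth.Agent.WildRam
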